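import Cfsg.Agent.Gold.Defs
import Cfsg.Agent.Trans.SylowIn
import Cfsg.Agent.Known.TrialityPair
import Cfsg.Agent.Known.OrthOutMat
import Cfsg.Prelude.Def_Spor_Fi22

/-!
A standard subgroup `Ω₈⁺(2)`, the case leading to `Fi₂₂`: definitions.

Vectors are bit strings.  Eight bits: the natural module, hyperbolic pairs of bits (0,3), (1,4),
(2,5), (6,7).  Six bits: `A`.  Seven bits: `E = A⟨t⟩`, bit 6 is `t`.  Ten bits: `R / ⟨z⟩`.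
-/

set_option autoImplicit false

namespace Cfsg.Lib.O8F

open Subgroup Cfsg.Lib.Trans Cfsg.Lib.Gold Cfsg.Lib.Known Cfsg.Lib.Class.Orth

universe u

def b6 (x y : ℕ) : ℕ := (x % 2 * (y / 8) + x / 2 % 2 * (y / 16) + x / 4 % 2 * (y / 32) +
    x / 8 % 2 * y + x / 16 % 2 * (y / 2) + x / 32 % 2 * (y / 4)) % 2
def q6 (v : ℕ) : ℕ := (v * (v / 8) + v / 2 * (v / 16) + v / 4 * (v / 32)) % 2
def q8 (v : ℕ) : ℕ := (q6 v + v / 64 * (v / 128)) % 2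
def b8 (x y : ℕ) : ℕ := (b6 x y + x / 64 % 2 * (y / 128) + x / 128 % 2 * (y / 64)) % 2
/-- Transvection on six bits. -/
def r6 (v a : ℕ) : ℕ := a ^^^ b6 a v * v
/-- Its action on seven bits. -/
def r7 (v a : ℕ) : ℕ := a ^^^ (b6 a v + a / 64 * (1 + q6 v)) % 2 * v
/-- Reflection on eight bits. -/
def r8 (v a : ℕ) : ℕ := a ^^^ b8 a v * v
/-- Siegel transformation on eight bits. -/
def ei (p w a : ℕ) : ℕ := a ^^^ (b8 a w + q8 w * b8 a p) % 2 * p ^^^ b8 a p * w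
def q10 (c : ℕ) : ℕ := (c * (c / 2) + c / 4 * (c / 64) + c / 8 * (c / 128) + c / 16 * (c / 256) +
    c / 32 * (c / 512)) % 2
def b10 (c d : ℕ) : ℕ := (q10 (c ^^^ d) + q10 c + q10 d) % 2

/-- Additive isometries of eight bits. -/
structure Iso (f : ℕ → ℕ) : Prop where
  lt : ∀ v < 256, f v < 256
  add : ∀ u < 256, ∀ v < 256, f (u ^^^ v) = f u ^^^ f v
  q : ∀ v < 256, q8 (f v) = q8 v

/-- Symplectic maps of six bits. -/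
structure Sp (f : ℕ → ℕ) : Prop where
  lt : ∀ v < 64, f v < 64
  add : ∀ u < 64, ∀ v < 64, f (u ^^^ v) = f u ^^^ f v
  b : ∀ u < 64, ∀ v < 64, b6 (f u) (f v) = b6 u v

def Ok (p w : ℕ) : Prop := p < 256 ∧ w < 256 ∧ q8 p = 0 ∧ b8 p w = 0

instance (p w : ℕ) : Decidable (Ok p w) := inferInstanceAs (Decidable (_ ∧ _))

/-! ### The model -/

abbrev Q8 : QuadraticForm (ZMod 2) (Fin 4 ⊕ Fin 4 → ZMod 2) := qPlus 4 (ZMod 2)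

theorem H8 : BigO Q8 := by
  rw [Q8, qPlus_eq]; exact bigO_quadPlus le_rfl

abbrev P8 : Type := POm Q8

def vec (v : ℕ) : Fin 4 ⊕ Fin 4 → ZMod 2 :=
  Sum.elim (fun i => ((v / ![1, 2, 4, 64] i : ℕ) : ZMod 2)) fun i => ((v / ![8, 16, 32, 128] i : ℕ) : ZMod 2)

noncomputable def eb (p w : ℕ) : P8 := eP H8 (vec p) (vec w)

def ActP (α : MulAut P8) (f : ℕ → ℕ) : Prop :=
  Iso f ∧ ∀ p w, Ok p w → α (eb p w) = eb (f p) (f w)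

/-! ### Ten bits -/

def VX : Type := Fin 1024

instance : DecidableEq VX := inferInstanceAs (DecidableEq (Fin 1024))
instance : Fintype VX := inferInstanceAs (Fintype (Fin 1024))

instance : CommGroup VX where
  mul a b := ⟨a.1 ^^^ b.1, Nat.xor_lt_two_pow (n := 10) a.2 b.2⟩
  one := ⟨0, by decide⟩
  inv a := a
  mul_assoc a b c := Fin.ext (Nat.xor_assoc a.1 b.1 c.1)
  one_mul a := Fin.ext (Nat.zero_xor a.1)
  mul_one a := Fin.ext (Nat.xor_zero a.1)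
  inv_mul_cancel a := Fin.ext (Nat.xor_self a.1)
  mul_comm a b := Fin.ext (Nat.xor_comm a.1 b.1)

theorem VX.mul_val (a b : VX) : (a * b).1 = a.1 ^^^ b.1 := rfl
theorem VX.one_val : (1 : VX).1 = 0 := rfl
theorem VX.inv_eq (a : VX) : a⁻¹ = a := rfl
theorem VX.ext {a b : VX} (h : a.1 = b.1) : a = b := Fin.ext h
theorem VX.sq (a : VX) : a * a = 1 := inv_mul_cancel a
theorem VX.card : Nat.card VX = 1024 := Nat.card_fin 1024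

def mkV (n : ℕ) : VX := ⟨n % 1024, Nat.mod_lt _ (by decide)⟩

/-- Apply the matrix with the given columns. -/
def ap (c : List ℕ) (v : ℕ) : ℕ :=
  v % 2 * c.getD 0 0 ^^^ v / 2 % 2 * c.getD 1 0 ^^^ v / 4 % 2 * c.getD 2 0 ^^^ v / 8 % 2 * c.getD 3 0 ^^^
    v / 16 % 2 * c.getD 4 0 ^^^ v / 32 % 2 * c.getD 5 0 ^^^ v / 64 % 2 * c.getD 6 0 ^^^
    v / 128 % 2 * c.getD 7 0 ^^^ v / 256 % 2 * c.getD 8 0 ^^^ v / 512 % 2 * c.getD 9 0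

def Cols (γ : MulAut VX) (c : List ℕ) : Prop := ∀ v : VX, (γ v).1 = ap c v.1

def idC : List ℕ := [1, 2, 4, 8, 16, 32, 64, 128, 256, 512]

/-- The generators: `x 8`, `σ 18`, `σ 38`, `σ 32`, `σ 22`, `σ 50`, `e 65 136`. -/
def Gk (k : ℕ) : ℕ → List ℕ
  | 0 => [1, 2, 4, 8, 16, 32, 72, 132, 288, 528]
  | 1 => [1, 2, 12, 8, 16, 32, 64, 192, 256, 512]
  | 2 => [1, 2, 4, 12, 16, 32, 192, 128, 256, 512]
  | 3 => [25, 2, 28, 8, 16, 56, 64, 706, 834, 512]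
  | 4 => [1, 2, 4, 8, 48, 32, 64, 128, 256, 768]
  | 5 => [1, 2, 4, 8, 16, 48, 64, 128, 768, 512]
  | _ => if k = 0 then [1, 2, 128, 64, 512, 256, 8, 4, 32, 16] else [1, 2, 128, 64, 528, 288, 8, 4, 256, 512]

/-- The matrix of a word in the generators. -/
def wdC (k : ℕ) (w : List ℕ) : List ℕ := w.foldr (fun i c => c.map (ap (Gk k i))) idC

def O40 : List ℕ :=
  [1, 21, 25, 29, 37, 41, 45, 53, 57, 61, 71, 79, 139, 143, 199, 203, 275, 307, 329, 353, 389, 417, 461, 481, 547, 563, 585, 593, 645, 657, 717, 721, 787, 803, 841, 881, 901, 945, 973, 1009]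

/-- A group of order 16 fixing `1`. -/
def L16 : List (List ℕ) :=
  [[1, 2, 4, 8, 16, 32, 64, 128, 256, 512],
   [1, 2, 4, 8, 16, 32, 72, 132, 288, 528],
   [1, 2, 4, 8, 48, 32, 64, 128, 256, 768],
   [1, 2, 12, 8, 16, 32, 64, 192, 256, 512],
   [1, 2, 12, 8, 16, 32, 72, 204, 288, 528],
   [1, 2, 4, 8, 48, 32, 72, 132, 288, 816],
   [1, 2, 12, 8, 48, 32, 64, 192, 256, 768],
   [1, 2, 12, 8, 48, 32, 72, 204, 288, 816],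
   [1, 2, 16, 32, 4, 8, 256, 512, 64, 128],
   [1, 2, 16, 32, 4, 8, 288, 528, 72, 132],
   [1, 2, 16, 32, 12, 8, 256, 512, 64, 192],
   [1, 2, 48, 32, 4, 8, 256, 768, 64, 128],
   [1, 2, 48, 32, 4, 8, 288, 816, 72, 132],
   [1, 2, 16, 32, 12, 8, 288, 528, 72, 204],
   [1, 2, 48, 32, 12, 8, 256, 768, 64, 192],
   [1, 2, 48, 32, 12, 8, 288, 816, 72, 204]]

def W16 : List (List ℕ) :=
  [[],
   [0],
   [4],
   [1],
   [0, 1],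
   [0, 4],
   [1, 4],
   [0, 1, 4],
   [3, 2, 1, 4, 3, 2, 5, 4, 3],
   [0, 3, 2, 1, 4, 3, 2, 5, 4, 3],
   [1, 3, 2, 1, 4, 3, 2, 5, 4, 3],
   [3, 2, 1, 4, 3, 2, 1, 5, 4, 3],
   [0, 3, 2, 1, 4, 3, 2, 1, 5, 4, 3],
   [0, 1, 3, 2, 1, 4, 3, 2, 5, 4, 3],
   [1, 3, 2, 1, 4, 3, 2, 1, 5, 4, 3],
   [0, 1, 3, 2, 1, 4, 3, 2, 1, 5, 4, 3]]

/-- With `L16` a group of order 32 fixing `2`, `40`, `42`. -/
def L16' : List (List ℕ) :=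
  [[41, 2, 44, 8, 56, 32, 64, 450, 256, 834],
   [41, 2, 44, 8, 56, 32, 72, 494, 288, 890],
   [41, 2, 36, 8, 56, 32, 64, 386, 256, 834],
   [41, 2, 44, 8, 24, 32, 64, 450, 256, 578],
   [41, 2, 36, 8, 56, 32, 72, 422, 288, 890],
   [41, 2, 44, 8, 24, 32, 72, 494, 288, 602],
   [41, 2, 36, 8, 24, 32, 64, 386, 256, 578],
   [41, 2, 56, 32, 44, 8, 256, 834, 64, 450],
   [41, 2, 36, 8, 24, 32, 72, 422, 288, 602],
   [41, 2, 56, 32, 36, 8, 256, 834, 64, 386],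
   [41, 2, 24, 32, 44, 8, 256, 578, 64, 450],
   [41, 2, 56, 32, 44, 8, 288, 890, 72, 494],
   [41, 2, 24, 32, 44, 8, 288, 602, 72, 494],
   [41, 2, 56, 32, 36, 8, 288, 890, 72, 422],
   [41, 2, 24, 32, 36, 8, 256, 578, 64, 386],
   [41, 2, 24, 32, 36, 8, 288, 602, 72, 422]]

def W16' : List (List ℕ) :=
  [[3, 4, 5, 4, 3],
   [0, 3, 4, 5, 4, 3],
   [1, 3, 4, 5, 4, 3],
   [3, 4, 3, 5, 4, 3],
   [0, 1, 3, 4, 5, 4, 3],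
   [0, 3, 4, 3, 5, 4, 3],
   [1, 3, 4, 3, 5, 4, 3],
   [2, 1, 3, 2, 1, 4, 3, 2],
   [0, 1, 3, 4, 3, 5, 4, 3],
   [1, 2, 1, 3, 2, 1, 4, 3, 2],
   [2, 1, 3, 2, 1, 4, 3, 2, 1],
   [0, 2, 1, 3, 2, 1, 4, 3, 2],
   [0, 2, 1, 3, 2, 1, 4, 3, 2, 1],
   [0, 1, 2, 1, 3, 2, 1, 4, 3, 2],
   [1, 2, 1, 3, 2, 1, 4, 3, 2, 1],
   [0, 1, 2, 1, 3, 2, 1, 4, 3, 2, 1]]

/-- The group induced on ten bits. -/
structure GH (Γ : Subgroup (MulAut VX)) (k : ℕ) : Prop where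
  iso : ∀ γ ∈ Γ, ∀ v : VX, q10 (γ v).1 = q10 v.1
  gen : ∀ i < 7, ∃ γ ∈ Γ, Cols γ (Gk k i)
  two : ∀ B : Subgroup (MulAut VX), B ≤ Γ → IsPGroup 2 B → (∀ γ ∈ B, γ (mkV 1) = mkV 1) → Nat.card B ≤ 16
  nf : ∀ γ ∈ Γ, γ (mkV 1) ≠ mkV 9

/-! ### The group -/

variable {G : Type u} [Group G]

/-- `x` has 2-power order. -/
def Tw (x : G) : Prop := ∃ k : ℕ, x ^ 2 ^ k = 1

def Act (L : Subgroup G) (e : ℕ → ℕ → G) (g : G) (f : ℕ → ℕ) : Prop :=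
  g ∈ Ns L ∧ Iso f ∧ ∀ p w, Ok p w → g * e p w * g⁻¹ = e (f p) (f w)

def AA (x : ℕ → G) : Subgroup G := closure {g | ∃ a < 64, g = x a}

def EE (t : G) (x : ℕ → G) : Subgroup G := closure ({t} ∪ {g | ∃ a < 64, g = x a})

def QQ (e : ℕ → ℕ → G) : Subgroup G :=
  closure ({g | ∃ a < 64, a / 8 % 2 = 0 ∧ g = e 64 a} ∪ {g | ∃ b < 64, b % 2 = 0 ∧ b / 8 % 2 = 0 ∧ g = e 1 b})

def SS (σ : ℕ → G) : Subgroup G := closure {g | ∃ v < 64, v ≠ 0 ∧ g = σ v}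

def On (x : ℕ → G) (n : ℕ) (g : G) (f : ℕ → ℕ) : Prop := ∀ a < n, g * x a * g⁻¹ = x (f a)

/-- The hypotheses. -/
structure HY (t : G) (L : Subgroup G) (x : ℕ → G) : Prop where
  hO : oddCore G = ⊥
  tt : t * t = 1
  t1 : t ≠ 1
  tC : t ∈ Cs L
  CN : C1 t ≤ Ns L
  cyc : ∀ P : Subgroup G, P ≤ Cs L → IsPGroup 2 P → IsCyclic P
  mv : ∃ g ∈ Ns (EE t x), g ∉ C1 t
  nc1 : ∀ a < 64, ¬ IsConj t (x a)
  nc2 : ∀ a < 64, q6 a = 1 → ¬ IsConj t (t * x a)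

/-- The hypotheses and the structure of `L`. -/
structure LF (G : Type u) [Group G] where
  t : G
  L : Subgroup G
  e : ℕ → ℕ → G
  hy : HY t L (e 64)
  e_mem : ∀ p w, e p w ∈ L
  e_add : ∀ p w w', Ok p w → Ok p w' → e p (w ^^^ w') = e p w * e p w'
  e_self : ∀ p, Ok p p → e p p = 1
  e_inj : ∀ p w, Ok p w → p ≠ 0 → e p w = 1 → w = 0 ∨ w = p
  e_swap : ∀ p w, Ok p w → q8 w = 0 → e p w = e w p
  e_conj : ∀ p w p' w', Ok p w → Ok p' w' → e p w * e p' w' * (e p w)⁻¹ = e (ei p w p') (ei p w w')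
  gen : ∀ K : Subgroup G, (∀ p w, Ok p w → e p w ∈ K) → L ≤ K
  zL : ∀ g ∈ L, g ∈ Cs L → g = 1
  perf : ⁅L, L⁆ = L
  actL : ∀ v < 256, ∀ w < 256, q8 v = 1 → q8 w = 1 → ∃ l ∈ L, Act L e l fun a => r8 v (r8 w a)
  actA : ∀ g ∈ Ns L, (∃ a < 64, g * e 64 2 * g⁻¹ = e 64 a) → (∃ a < 64, g * e 64 16 * g⁻¹ = e 64 a) →
    ∃ f, Act L e g f ∧ f 64 = 64
  actN : ∀ g f, Act L e g f → ∃ l ∈ L, Act L e (g * l) id ∨ Act L e (g * l) (r8 18)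
  nQ : ∀ g ∈ Ns L, g * e 64 1 * g⁻¹ = e 64 1 → g ∈ Ns (QQ e)
  two : ∀ P : Subgroup G, IsPGroup 2 P → P ≤ Ns L → Nat.card P ≤ 2 ^ 13 * Nat.card ↥(P ⊓ Cs L)

namespace LF

variable (c : LF G)

abbrev x (a : ℕ) : G := c.e 64 a
abbrev y (b : ℕ) : G := c.e 1 b
abbrev z : G := c.e 64 1
def X (v : ℕ) : G := c.x (v % 64) * c.t ^ (v / 64)
abbrev A : Subgroup G := AA c.x
abbrev E : Subgroup G := EE c.t c.x
abbrev Q : Subgroup G := QQ c.e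
abbrev Ac (g : G) (f : ℕ → ℕ) : Prop := Act c.L c.e g f
abbrev On6 (g : G) (f : ℕ → ℕ) : Prop := On c.x 64 g f
abbrev On7 (g : G) (f : ℕ → ℕ) : Prop := On c.X 128 g f

end LF

/-- The odd part of the centralizer of `E`. -/
structure OF (G : Type u) [Group G] extends LF G where
  O : Subgroup G
  mem_O : ∀ g, g ∈ O ↔ g ∈ Cs toLF.E ∧ Odd (orderOf g)
  mem_O' : ∀ g, g ∈ O ↔ g ∈ C1 t ∧ g ∈ Cs L ∧ Odd (orderOf g)
  K_or : ∀ g ∈ C1 t, g ∈ Cs L → g ∈ O ∨ t * g ∈ O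
  CE : ∀ g ∈ Cs toLF.E, ∃ v < 128, ∃ o ∈ O, g = toLF.X v * o
  nE : Ns toLF.E ≤ Ns O
  nC : C1 t ≤ Ns O
  twE : ∀ g ∈ Cs toLF.E, Tw g → g ∈ toLF.E

/-- A lift of the reflection in `18`. -/
structure OF.D0 (c : OF G) (d : G) : Prop where
  sq : d * d = 1
  N : d ∈ Ns c.E
  cO : d ∈ Cs c.O
  ct : d ∈ C1 c.t
  ac : c.Ac d (r8 18)

/-- Invariant pairs of lifts of the transvections. -/
structure OF.DF (c : OF G) (δ : ℕ → G) : Prop where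
  sq : ∀ v < 64, v ≠ 0 → δ v * δ v = 1
  N : ∀ v < 64, v ≠ 0 → δ v ∈ Ns c.E
  cO : ∀ v < 64, v ≠ 0 → δ v ∈ Cs c.O
  on : ∀ v < 64, v ≠ 0 → c.On7 (δ v) (r7 v)
  inv : ∀ g ∈ Ns c.E, ∀ v < 64, v ≠ 0 → ∀ w < 64, g * c.x v * g⁻¹ = c.x w →
    g * δ v * g⁻¹ = δ w ∨ g * δ v * g⁻¹ = δ w * c.x w
  ac : ∀ v < 64, q6 v = 1 → c.Ac (δ v) (r8 v)
  mL : ∀ v < 64, ∀ w < 64, q6 v = 1 → q6 w = 1 → δ v * δ w ∈ c.L

/-- A closed system of lifts. -/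
structure SF (G : Type u) [Group G] extends OF G where
  σ : ℕ → G
  k : ℕ
  k2 : k < 2
  sq : ∀ v < 64, v ≠ 0 → σ v * σ v = 1
  sN : ∀ v < 64, v ≠ 0 → σ v ∈ Ns toLF.E
  sO : ∀ v < 64, v ≠ 0 → σ v ∈ Cs O
  on : ∀ v < 64, v ≠ 0 → toLF.On7 (σ v) (r7 v)
  cl : ∀ v < 64, v ≠ 0 → ∀ w < 64, w ≠ 0 → σ w * σ v * σ w = σ (r6 w v)
  F18 : σ 18 * σ 19 = toLF.y 18
  F38 : σ 38 * σ 39 = toLF.y 38
  F22 : σ 22 * σ 23 = toLF.y 22 * toLF.x 23 ^ k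
  F50 : σ 50 * σ 51 = toLF.y 50 * toLF.x 51 ^ k

namespace SF

variable (c : SF G)

abbrev u : G := c.σ 1
abbrev S : Subgroup G := SS c.σ

/-- Generators of `R`. -/
def g : ℕ → G
  | 0 => c.t
  | 1 => c.σ 1
  | 2 => c.x 38
  | 3 => c.x 18
  | 4 => c.x 50
  | 5 => c.x 22
  | 6 => c.σ 18 * c.σ 19
  | 7 => c.σ 38 * c.σ 39
  | 8 => c.σ 22 * c.σ 23
  | _ => c.σ 50 * c.σ 51

def R : Subgroup G := closure {r | ∃ i < 10, r = c.g i}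
abbrev M : Subgroup G := C1 c.z ⊓ Ns c.R

end SF

/-- Coordinates on an extraspecial group. -/
structure KP (z : G) (g : ℕ → G) (κ : G → VX) : Prop where
  mul : ∀ r ∈ closure {r | ∃ i < 10, r = g i}, ∀ s ∈ closure {r | ∃ i < 10, r = g i}, κ (r * s) = κ r * κ s
  one : ∀ r ∈ closure {r | ∃ i < 10, r = g i}, κ r = 1 ↔ r = 1 ∨ r = z
  gen : ∀ i < 10, κ (g i) = mkV (2 ^ i)
  surj : ∀ v, ∃ r ∈ closure {r | ∃ i < 10, r = g i}, κ r = v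
  sq : ∀ r ∈ closure {r | ∃ i < 10, r = g i}, r * r = z ^ q10 (κ r).1
  cm : ∀ r ∈ closure {r | ∃ i < 10, r = g i}, ∀ s ∈ closure {r | ∃ i < 10, r = g i},
    r * s = s * r * z ^ b10 (κ r).1 (κ s).1
  zR : z ∈ closure {r | ∃ i < 10, r = g i}
  card : Nat.card ↥(closure {r | ∃ i < 10, r = g i}) = 2048

/-- The action on `R / ⟨z⟩`. -/
structure RF (G : Type u) [Group G] extends SF G where
  κ : G → VX
  kp : KP toLF.z toSF.g κ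
  ρ : toSF.M →* MulAut VX
  ρκ : ∀ m : toSF.M, ∀ r ∈ toSF.R, ρ m (κ r) = κ (m * r * (m : G)⁻¹)

/-- The configuration in the subgroup of index 2. -/
structure XF (Y : Type u) [Group Y] where
  x : ℕ → Y
  σ : ℕ → Y
  O : Subgroup Y
  x_add : ∀ a < 64, ∀ b < 64, x (a ^^^ b) = x a * x b
  x_inj : ∀ a < 64, x a = 1 → a = 0
  on : ∀ v < 64, v ≠ 0 → On x 64 (σ v) (r6 v)
  odd : Odd (Nat.card O)
  cO : O ≤ Cs (AA x)
  nO : Ns (AA x) ≤ Ns O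
  CA : ∀ g ∈ Cs (AA x), ∃ o ∈ O, ∃ a < 64, g = o * x a
  sp : ∀ g ∈ Ns (AA x), ∃ f, Sp f ∧ On x 64 g f
  ko : ∀ g ∈ SS σ, g ∈ Cs (AA x) → g ∈ O

end Cfsg.Lib.O8F
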